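import Mathlib.LinearAlgebra.FiniteDimensional.Lemmas
import Mathlib.LinearAlgebra.Basis.VectorSpace
import Mathlib.LinearAlgebra.Quotient.Basic
import Mathlib.RingTheory.Artinian.Module
import Mathlib.LinearAlgebra.Dimension.OrzechProperty
import Mathlib.Tactic.LinearCombination

/-!
# Semilinear endomorphisms of finite dimensional spaces
-/

universe u v

namespace Groth.Agent.Lib.SigmaLin99.Basic

open Module

variable {k : Type u} [Field k] {σ : k →+* k} {V : Type v} [AddCommGroup V] [Module k V] (T : V →ₛₗ[σ] V)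

theorem iterate_add (n : ℕ) (x y : V) : T^[n] (x + y) = T^[n] x + T^[n] y :=
  iterate_map_add T n x y

theorem iterate_smul (n : ℕ) (c : k) (x : V) : T^[n] (c • x) = σ^[n] c • T^[n] x := by
  induction n generalizing c x with
  | zero => rfl
  | succ n ih => rw [Function.iterate_succ_apply, LinearMap.map_smulₛₗ, ih, Function.iterate_succ_apply,
      Function.iterate_succ_apply]

theorem apply_mem_span_image {s : Set V} {x : V} (hx : x ∈ Submodule.span k s) :
    T x ∈ Submodule.span k (T '' s) := by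
  induction hx using Submodule.span_induction with
  | mem y hy => exact Submodule.subset_span ⟨y, hy, rfl⟩
  | zero => rw [map_zero]; exact zero_mem _
  | add a b _ _ ha hb => rw [map_add]; exact add_mem ha hb
  | smul c a _ ha => rw [LinearMap.map_smulₛₗ]; exact Submodule.smul_mem _ _ ha

/-- The span of the image of an iterate. -/
def sp (n : ℕ) : Submodule k V := Submodule.span k (Set.range ((⇑T)^[n]))

/-- The semisimple part. -/
def ss : Submodule k V := ⨅ n : ℕ, sp T n

theorem range_iterate_succ (n : ℕ) : Set.range ((⇑T)^[n + 1]) = T '' Set.range ((⇑T)^[n]) := by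
  rw [Function.iterate_succ', Set.range_comp]

theorem sp_succ (n : ℕ) : sp T (n + 1) = Submodule.span k (T '' (sp T n : Set V)) := by
  rw [sp, range_iterate_succ]
  refine le_antisymm (Submodule.span_mono (Set.image_mono Submodule.subset_span)) (Submodule.span_le.2 ?_)
  rintro _ ⟨x, hx, rfl⟩
  exact apply_mem_span_image T hx

theorem sp_antitone : Antitone (sp T) := antitone_nat_of_succ_le fun n => by
  refine Submodule.span_mono ?_
  rintro _ ⟨x, rfl⟩
  exact ⟨T x, by rw [Function.iterate_succ_apply]⟩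

theorem apply_mem_ss {x : V} (hx : x ∈ ss T) : T x ∈ ss T := by
  refine Submodule.mem_iInf _ |>.2 fun n => sp_antitone T (Nat.le_succ n) ?_
  rw [sp_succ]
  exact Submodule.subset_span ⟨x, Submodule.mem_iInf _ |>.1 hx n, rfl⟩

section Finite

variable [FiniteDimensional k V]

theorem exists_ss_eq : ∃ N, ∀ n, N ≤ n → sp T n = ss T := by
  obtain ⟨N, hN⟩ := IsArtinian.monotone_stabilizes (R := k) (M := V)
    ⟨fun n => OrderDual.toDual (sp T n), fun a b h => OrderDual.toDual_le_toDual.2 (sp_antitone T h)⟩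
  refine ⟨N, fun n hn => le_antisymm (le_iInf fun m => ?_) (iInf_le _ n)⟩
  rcases le_total m n with h | h
  · exact sp_antitone T h
  · have h1 : sp T N = sp T n := congrArg OrderDual.ofDual (hN n hn)
    have h2 : sp T N = sp T m := congrArg OrderDual.ofDual (hN m (hn.trans h))
    rw [← h1, ← h2]

theorem span_image_ss : Submodule.span k (T '' (ss T : Set V)) = ss T := by
  obtain ⟨N, hN⟩ := exists_ss_eq T
  conv_lhs => rw [← hN N le_rfl, ← sp_succ, hN (N + 1) (Nat.le_succ N)]

/-- The restriction to the semisimple part. -/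
def res : ss T →ₛₗ[σ] ss T where
  toFun x := ⟨T x, apply_mem_ss T x.2⟩
  map_add' x y := Subtype.ext (map_add T _ _)
  map_smul' c x := Subtype.ext (LinearMap.map_smulₛₗ T c _)

theorem res_apply (x : ss T) : (res T x : V) = T x := rfl

theorem res_iterate (n : ℕ) (x : ss T) : (((res T)^[n] x : ss T) : V) = T^[n] x := by
  induction n with
  | zero => rfl
  | succ n ih => rw [Function.iterate_succ_apply', Function.iterate_succ_apply', res_apply, ih]

theorem span_range_res : Submodule.span k (Set.range (res T)) = ⊤ := by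
  refine Submodule.map_injective_of_injective (ss T).injective_subtype ?_
  rw [Submodule.map_top, Submodule.range_subtype, Submodule.map_span, ← Set.range_comp]
  conv_rhs => rw [← span_image_ss T]
  congr 1
  ext y
  exact ⟨fun ⟨x, hx⟩ => ⟨x.1, x.2, hx⟩, fun ⟨x, hx, hxy⟩ => ⟨⟨x, hx⟩, hxy⟩⟩

theorem injective_of_span (h : Submodule.span k (Set.range T) = ⊤) : Function.Injective T := by
  let b := Module.finBasis k V
  have hs : Submodule.span k (Set.range fun i => T (b i)) = ⊤ := by
    refine top_unique (h ▸ Submodule.span_le.2 ?_)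
    rintro _ ⟨x, rfl⟩
    have := apply_mem_span_image T (b.mem_span x)
    rwa [← Set.range_comp] at this
  have hli : LinearIndependent k fun i => T (b i) :=
    linearIndependent_of_top_le_span_of_card_eq_finrank hs.ge (Fintype.card_fin _)
  refine (injective_iff_map_eq_zero T).2 fun x hx => b.repr.injective (Finsupp.ext fun i => ?_)
  rw [← b.sum_repr x, map_sum] at hx
  simp only [LinearMap.map_smulₛₗ] at hx
  simpa using σ.injective ((Fintype.linearIndependent_iff.1 hli _ hx i).trans (map_zero σ).symm)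

theorem eq_zero_of_iterate_eq_zero {v : V} (hv : v ∈ ss T) {n : ℕ} (h : T^[n] v = 0) : v = 0 := by
  have hinj := (injective_of_span (res T) (span_range_res T)).iterate n
  have : (⟨v, hv⟩ : ss T) = 0 := hinj (Subtype.ext (by rw [res_iterate, h, iterate_map_zero]; rfl))
  exact congrArg Subtype.val this

/-- The vectors killed by some iterate. -/
def nilPart : Submodule k V where
  carrier := {v | ∃ n : ℕ, T^[n] v = 0}
  zero_mem' := ⟨0, rfl⟩
  add_mem' {a b} := fun ⟨m, hm⟩ ⟨n, hn⟩ => ⟨m + n, by
    rw [iterate_add, add_comm m n, Function.iterate_add_apply, hm, iterate_map_zero, zero_add, add_comm n m,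
      Function.iterate_add_apply, hn, iterate_map_zero]⟩
  smul_mem' c a := fun ⟨n, hn⟩ => ⟨n, by rw [iterate_smul, hn, smul_zero]⟩

theorem exists_nilPart_killed : ∃ N, (∀ n, N ≤ n → sp T n = ss T) ∧ ∀ v ∈ nilPart T, T^[N] v = 0 := by
  obtain ⟨N, hN⟩ := exists_ss_eq T
  refine ⟨N, hN, fun v hv => ?_⟩
  obtain ⟨m, hm⟩ := hv
  refine eq_zero_of_iterate_eq_zero T (hN N le_rfl ▸ Submodule.subset_span ⟨v, rfl⟩) (n := m) ?_
  rw [← Function.iterate_add_apply, add_comm, Function.iterate_add_apply, hm, iterate_map_zero]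

theorem surjective_of_span (hσ : Function.Surjective σ) (h : Submodule.span k (Set.range T) = ⊤) :
    Function.Surjective T := by
  let R : Submodule k V :=
    { carrier := Set.range T
      zero_mem' := ⟨0, map_zero T⟩
      add_mem' := fun ⟨a, ha⟩ ⟨b, hb⟩ => ⟨a + b, by rw [map_add, ha, hb]⟩
      smul_mem' := fun c _ ⟨a, ha⟩ => by
        obtain ⟨c', rfl⟩ := hσ c
        exact ⟨c' • a, by rw [LinearMap.map_smulₛₗ, ha]⟩ }
  intro x
  have hx : x ∈ R := (Submodule.span_le.2 (fun y hy => hy) : Submodule.span k (Set.range T) ≤ R) (h ▸ Submodule.mem_top)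
  exact hx

theorem exists_decomp (hσ : Function.Surjective σ) (v : V) : ∃ w ∈ nilPart T, ∃ s ∈ ss T, w + s = v := by
  obtain ⟨N, hN, -⟩ := exists_nilPart_killed T
  obtain ⟨s, hs⟩ := (surjective_of_span (res T) hσ (span_range_res T)).iterate N
    ⟨T^[N] v, hN N le_rfl ▸ Submodule.subset_span ⟨v, rfl⟩⟩
  refine ⟨v - s, ⟨N, ?_⟩, s, s.2, sub_add_cancel _ _⟩
  rw [iterate_map_sub, ← res_iterate, hs, sub_self]

theorem isCompl (hσ : Function.Surjective σ) : IsCompl (nilPart T) (ss T) := by
  refine ⟨Submodule.disjoint_def.2 fun x ⟨n, hn⟩ hx => eq_zero_of_iterate_eq_zero T hx hn,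
    Submodule.codisjoint_iff_exists_add_eq.2 fun v => ?_⟩
  obtain ⟨w, hw, s, hs, h⟩ := exists_decomp T hσ v
  exact ⟨w, s, hw, hs, h⟩

/-- Solvability of the basic equation. -/
def Cond₂ (σ : k →+* k) : Prop :=
  ∀ (n : ℕ) (b : Fin (n + 1) → k), b ≠ 0 →
    ∃ x : k, x ≠ 0 ∧ x = ∑ i : Fin (n + 1), (⇑σ)^[i.val + 1] x * (⇑σ)^[i.val] (b (Fin.rev i))

theorem exists_fixed_in_orbit (h2 : Cond₂ σ) (e : V) (he : ∀ m : ℕ, T^[m] e ≠ 0) :
    ∃ v ∈ Submodule.span k (Set.range fun m : ℕ => T^[m] e), v ≠ 0 ∧ T v = v := by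
  classical
  let f : ℕ → V := fun m => T^[m] e
  have hex : ∃ m, f m ∈ Submodule.span k (f '' Set.Iio m) := by
    obtain ⟨m, hm⟩ := monotone_stabilizes_iff_noetherian.2 (inferInstance : IsNoetherian k V)
      ⟨fun m => Submodule.span k (f '' Set.Iio m), fun a b h => Submodule.span_mono (Set.image_mono (Set.Iio_subset_Iio h))⟩
    refine ⟨m, ?_⟩
    have h : Submodule.span k (f '' Set.Iio m) = Submodule.span k (f '' Set.Iio (m + 1)) := hm (m + 1) (Nat.le_succ m)
    rw [h]
    exact Submodule.subset_span ⟨m, Nat.lt_succ_self m, rfl⟩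
  obtain ⟨n, hn⟩ : ∃ n, Nat.find hex = n + 1 := by
    refine Nat.exists_eq_succ_of_ne_zero fun h0 => ?_
    have h := Nat.find_spec hex
    rw [h0] at h
    simp [f] at h
    exact he 0 h
  have hmem := Nat.find_spec hex
  have hmin : f n ∉ Submodule.span k (f '' Set.Iio n) := Nat.find_min hex (by omega)
  rw [hn, ← Finset.coe_range] at hmem
  · obtain ⟨B, hB⟩ := (Submodule.mem_span_image_finset_iff_exists_fun k).1 hmem
    let b : Fin (n + 1) → k := fun i => B ⟨i, Finset.mem_range.2 i.2⟩
    have hBsum : f (n + 1) = ∑ i : Fin (n + 1), b i • f i := by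
      rw [← hB]
      exact Fintype.sum_equiv
        ⟨fun i => ⟨i.1, Finset.mem_range.1 i.2⟩, fun i => ⟨i.1, Finset.mem_range.2 i.2⟩, fun _ => rfl, fun _ => rfl⟩
        _ _ fun i => rfl
    obtain ⟨x, hx0, hx⟩ := h2 n b fun h0 => he (n + 1) (by
      show f (n + 1) = 0
      rw [hBsum, h0]
      simp)
    let B' : ℕ → k := fun i => if h : i < n + 1 then b ⟨i, h⟩ else 0
    let c : ℕ → k := fun i => ∑ j ∈ Finset.range (i + 1), σ^[j + 1] x * σ^[j] (B' (i - j))
    have hc0 : c 0 = σ x * B' 0 := by simp [c]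
    have hcs : ∀ i, c (i + 1) = σ (c i) + σ x * B' (i + 1) := fun i => by
      simp only [c]
      rw [Finset.sum_range_succ', map_sum]
      congr 1
      refine Finset.sum_congr rfl fun j _ => ?_
      rw [map_mul, ← Function.iterate_succ_apply' (⇑σ) (j + 1), ← Function.iterate_succ_apply' (⇑σ) j,
        Nat.succ_sub_succ_eq_sub]
    have hcn : c n = x := by
      conv_rhs => rw [hx]
      simp only [c]
      rw [← Fin.sum_univ_eq_sum_range (fun j => σ^[j + 1] x * σ^[j] (B' (n - j))) (n + 1)]
      refine Finset.sum_congr rfl fun i _ => ?_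
      have hlt : n - (i : ℕ) < n + 1 := by omega
      simp only [B', dif_pos hlt]
      congr 3
      exact Fin.ext (by simp [Fin.val_rev])
    have hBsum' : f (n + 1) = ∑ i ∈ Finset.range (n + 1), B' i • f i := by
      rw [hBsum, ← Fin.sum_univ_eq_sum_range (fun i => B' i • f i)]
      exact Finset.sum_congr rfl fun i _ => by simp only [B', dif_pos i.2]
    refine ⟨∑ i ∈ Finset.range (n + 1), c i • f i, Submodule.sum_mem _ fun i _ =>
      Submodule.smul_mem _ _ (Submodule.subset_span ⟨i, rfl⟩), fun h0 => hmin ?_, ?_⟩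
    · rw [Finset.sum_range_succ, hcn, add_comm] at h0
      rw [← inv_smul_smul₀ hx0 (f n), eq_neg_of_add_eq_zero_left h0]
      exact Submodule.smul_mem _ _ (neg_mem (Submodule.sum_mem _ fun i hi => Submodule.smul_mem _ _
        (Submodule.subset_span ⟨i, Finset.mem_range.1 hi, rfl⟩)))
    · have hTf : ∀ i, T (f i) = f (i + 1) := fun i => (Function.iterate_succ_apply' T i e).symm
      rw [map_sum]
      simp only [LinearMap.map_smulₛₗ, hTf]
      rw [Finset.sum_range_succ, hBsum', Finset.smul_sum, hcn, Finset.sum_range_succ' (fun i => σ x • B' i • f i),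
        Finset.sum_range_succ' (fun i => c i • f i), ← add_assoc, ← Finset.sum_add_distrib, hc0, smul_smul]
      congr 1
      exact Finset.sum_congr rfl fun i _ => by rw [hcs, add_smul, smul_smul]

theorem exists_fixed_basis (h1 : Submodule.span k (Set.range T) = ⊤) (h2 : Cond₂ σ)
    (h3 : ∀ c : k, ∃ y : k, σ y - y + c = 0) :
    (∃ b : Basis (Fin (finrank k V)) k V, ∀ i, T (b i) = b i) ∧ Function.Surjective (fun v : V => v - T v) := by
  classical
  let F := Submodule.span k {v | T v = v}
  obtain ⟨s, hs, hspan, hli⟩ := exists_linearIndependent k {v : V | T v = v}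
  have hfin : Set.Finite s := hli.setFinite
  have : Fintype s := hfin.fintype
  have hF : F = ⊤ := by
    by_contra hne
    have hTF : ∀ x ∈ F, T x ∈ F := fun x hx => Submodule.span_mono
      (by rintro _ ⟨y, hy, rfl⟩; exact (show T y = y from hy).symm ▸ hy) (apply_mem_span_image T hx)
    let Q : (V ⧸ F) →ₛₗ[σ] (V ⧸ F) := F.mapQ F T fun x hx => hTF x hx
    have hQ : Submodule.span k (Set.range Q) = ⊤ := by
      refine top_unique fun y _ => ?_
      obtain ⟨x, rfl⟩ := F.mkQ_surjective y
      have hx : x ∈ Submodule.span k (Set.range T) := h1 ▸ Submodule.mem_top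
      have := Submodule.mem_map_of_mem (f := F.mkQ) hx
      rw [Submodule.map_span] at this
      refine Submodule.span_mono ?_ this
      rintro _ ⟨_, ⟨z, rfl⟩, rfl⟩
      exact ⟨F.mkQ z, rfl⟩
    have : Nontrivial (V ⧸ F) := Submodule.Quotient.nontrivial_iff.2 hne
    obtain ⟨e, he⟩ := exists_ne (0 : V ⧸ F)
    obtain ⟨v₀, -, hv0, hv⟩ := exists_fixed_in_orbit Q h2 e fun m h0 =>
      he ((injective_of_span Q hQ).iterate m (h0.trans (iterate_map_zero Q m).symm))
    obtain ⟨v, rfl⟩ := F.mkQ_surjective v₀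
    have hmem : T v - v ∈ Submodule.span k (Set.range ((↑) : s → V)) := by
      rw [Subtype.range_coe, hspan]
      exact (Submodule.Quotient.eq F).1 hv
    obtain ⟨a, ha⟩ := (Submodule.mem_span_range_iff_exists_fun k).1 hmem
    choose y hy using fun i : s => h3 (a i)
    let u : V := ∑ i : s, y i • (i : V)
    have hu : T (v + u) = v + u := by
      rw [map_add, ← sub_eq_zero]
      have e1 : T v + T u - (v + u) = (T v - v) + (T u - u) := by abel
      rw [e1, ← ha, map_sum, ← Finset.sum_sub_distrib, ← Finset.sum_add_distrib]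
      refine Finset.sum_eq_zero fun i _ => ?_
      rw [LinearMap.map_smulₛₗ, hs i.2, ← sub_smul, ← add_smul, add_comm, hy, zero_smul]
    refine hv0 ((Submodule.Quotient.mk_eq_zero F).2 ?_)
    have hu' : u ∈ F := Submodule.sum_mem _ fun i _ => Submodule.smul_mem _ _ (Submodule.subset_span (hs i.2))
    have := sub_mem (Submodule.subset_span hu : v + u ∈ F) hu'
    rwa [add_sub_cancel_right] at this
  have hsp : ⊤ ≤ Submodule.span k (Set.range ((↑) : s → V)) := by
    rw [Subtype.range_coe, hspan]
    exact hF.ge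
  let b₀ : Basis s k V := Basis.mk hli hsp
  let b := b₀.reindex (Fintype.equivFinOfCardEq (Module.finrank_eq_card_basis b₀).symm)
  have hb : ∀ i, T (b i) = b i := fun i => by
    simp only [b, Basis.reindex_apply, b₀, Basis.mk_apply]
    exact hs (Subtype.coe_prop _)
  refine ⟨⟨b, hb⟩, fun w => ?_⟩
  choose y hy using fun i => h3 (b.repr w i)
  refine ⟨∑ i, y i • b i, ?_⟩
  show _ - T _ = w
  conv_rhs => rw [← b.sum_repr w]
  rw [map_sum, ← Finset.sum_sub_distrib]
  refine Finset.sum_congr rfl fun i _ => ?_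
  rw [LinearMap.map_smulₛₗ, hb, ← sub_smul]
  congr 1
  linear_combination -(hy i)

theorem sub_surjective (hσ : Function.Surjective σ) (h2 : Cond₂ σ) (h3 : ∀ c : k, ∃ y : k, σ y - y + c = 0) :
    Function.Surjective (fun v : V => v - T v) := by
  intro v
  obtain ⟨w, hw, s, hs, rfl⟩ := exists_decomp T hσ v
  obtain ⟨N, -, hN⟩ := exists_nilPart_killed T
  obtain ⟨s', hs'⟩ := (exists_fixed_basis (res T) (span_range_res T) h2 h3).2 ⟨s, hs⟩
  refine ⟨(∑ i ∈ Finset.range N, T^[i] w) + s', ?_⟩
  show _ - T _ = w + s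
  have e1 : (s' : V) - T s' = s := congrArg Subtype.val hs'
  have e2 : (∑ i ∈ Finset.range N, T^[i] w) - T (∑ i ∈ Finset.range N, T^[i] w) = w := by
    rw [map_sum, ← Finset.sum_sub_distrib]
    have := Finset.sum_range_sub' (fun i => T^[i] w) N
    simp only [Function.iterate_succ_apply'] at this
    rw [this, hN w hw, Function.iterate_zero_apply, sub_zero]
  rw [map_add, add_sub_add_comm, e1, e2]

end Finite

end Groth.Agent.Lib.SigmaLin99.Basic
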