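import Groth.Agent.Lib.SigmaLin99.Basic
import Mathlib.RingTheory.Ideal.Quotient.Operations
import Mathlib.Algebra.Module.Torsion.Basic
import Mathlib.RingTheory.Finiteness.Ideal
import Mathlib.LinearAlgebra.FreeModule.Basic

/-!
# Semilinear endomorphisms of modules over a ring with nilpotent uniformiser
-/

universe u v w

namespace Groth.Agent.Lib.SigmaLin99.Nilp

open Basic

variable {R : Type u} [CommRing R] {k : Type w} [Field k] (φ : R →+* k) (σ : R →+* R) (σb : k →+* k) (π : R)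

/-- The data of a reduction. -/
structure Setup : Prop where
  surj : Function.Surjective φ
  ker : RingHom.ker φ = Ideal.span {π}
  comm : ∀ r, σb (φ r) = φ (σ r)
  fix : σ π = π

variable {φ σ σb π}
variable {M : Type v} [AddCommGroup M] [Module R M] (T : M →ₛₗ[σ] M)

theorem map_mem_smul (h : Setup φ σ σb π) {x : M} (hx : x ∈ (RingHom.ker φ) • (⊤ : Submodule R M)) :
    T x ∈ (RingHom.ker φ) • (⊤ : Submodule R M) := by
  refine Submodule.smul_induction_on hx (fun r hr y _ => ?_) fun a b ha hb => by rw [map_add]; exact add_mem ha hb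
  rw [LinearMap.map_smulₛₗ]
  refine Submodule.smul_mem_smul ?_ trivial
  rw [RingHom.mem_ker] at hr ⊢
  rw [← h.comm, hr, map_zero]

/-- The reduction of a semilinear map is semilinear over the residue field. -/
theorem exists_reduction [Module.Finite R M] (h : Setup φ σ σb π) :
    ∃ (Q : Type v) (_ : AddCommGroup Q) (_ : Module k Q) (_ : FiniteDimensional k Q) (Tb : Q →ₛₗ[σb] Q) (ψ : M →+ Q),
      Function.Surjective ψ ∧ (∀ (r : R) m, ψ (r • m) = φ r • ψ m) ∧ (∀ m, ψ (T m) = Tb (ψ m)) ∧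
        ∀ m, ψ m = 0 → ∃ y, m = π • y := by
  let I := RingHom.ker φ
  let e := RingHom.quotientKerEquivOfSurjective h.surj
  letI : Module k (M ⧸ I • (⊤ : Submodule R M)) := Module.compHom _ e.symm.toRingHom
  have hsm : ∀ (r : R) (m : M), φ r • (Submodule.Quotient.mk m : M ⧸ I • (⊤ : Submodule R M)) =
      Submodule.Quotient.mk (r • m) := fun r m => by
    show e.symm (φ r) • (Submodule.Quotient.mk m : M ⧸ I • (⊤ : Submodule R M)) = _
    rw [show e.symm (φ r) = Ideal.Quotient.mk I r from e.injective ((e.apply_symm_apply _).trans rfl)]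
    rfl
  letI : Algebra R k := φ.toAlgebra
  haveI : IsScalarTower R k (M ⧸ I • (⊤ : Submodule R M)) := ⟨fun r c q => by
    obtain ⟨s, rfl⟩ := h.surj c
    obtain ⟨m, rfl⟩ := Submodule.Quotient.mk_surjective _ q
    rw [Algebra.smul_def, RingHom.algebraMap_toAlgebra, ← map_mul, hsm, hsm, mul_smul]
    rfl⟩
  let Tq : (M ⧸ I • (⊤ : Submodule R M)) →ₛₗ[σ] (M ⧸ I • (⊤ : Submodule R M)) :=
    Submodule.mapQ _ _ T fun x hx => map_mem_smul T h hx
  refine ⟨M ⧸ I • (⊤ : Submodule R M), inferInstance, inferInstance,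
    Module.Finite.of_restrictScalars_finite R k _,
    { toFun := Tq
      map_add' := map_add Tq
      map_smul' := fun c q => ?_ }, (I • (⊤ : Submodule R M)).mkQ.toAddMonoidHom, Submodule.mkQ_surjective _,
    fun r m => (hsm r m).symm, fun m => rfl, fun m hm => ?_⟩
  · obtain ⟨r, rfl⟩ := h.surj c
    obtain ⟨m, rfl⟩ := Submodule.Quotient.mk_surjective _ q
    rw [hsm, h.comm]
    show (Submodule.Quotient.mk (T (r • m)) : M ⧸ I • (⊤ : Submodule R M)) = φ (σ r) • Submodule.Quotient.mk (T m)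
    rw [hsm, LinearMap.map_smulₛₗ]
  · have hm' : m ∈ I • (⊤ : Submodule R M) := (Submodule.Quotient.mk_eq_zero _).1 hm
    refine Submodule.smul_induction_on hm' (fun r hr y _ => ?_) fun a b ⟨y, hy⟩ ⟨z, hz⟩ => ⟨y + z, by rw [hy, hz, smul_add]⟩
    rw [show I = Ideal.span {π} from h.ker, Ideal.mem_span_singleton] at hr
    obtain ⟨a, rfl⟩ := hr
    exact ⟨a • y, by rw [mul_smul]⟩

theorem sub_surjective [Module.Finite R M] (h : Setup φ σ σb π) {n : ℕ} (hn : π ^ n = 0)
    (hsurj : Function.Surjective σb) (h2 : Cond₂ σb) (h3 : ∀ c : k, ∃ y : k, σb y - y + c = 0) :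
    Function.Surjective (fun m : M => m - T m) := by
  obtain ⟨Q, _, _, _, Tb, ψ, hψ, hsm, hT, hker⟩ := exists_reduction T h
  have hstep : ∀ y : M, ∃ x y' : M, y = (x - T x) + π • y' := by
    intro y
    obtain ⟨q, hq⟩ := Basic.sub_surjective Tb hsurj h2 h3 (ψ y)
    obtain ⟨x, rfl⟩ := hψ q
    obtain ⟨y', hy'⟩ := hker (y - (x - T x)) (by rw [map_sub, map_sub, hT, show ψ x - Tb (ψ x) = ψ y from hq, sub_self])
    exact ⟨x, y', by rw [← hy', add_sub_cancel]⟩
  have hind : ∀ (j : ℕ) (m : M), ∃ x y : M, m = (x - T x) + π ^ j • y := by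
    intro j
    induction j with
    | zero => exact fun m => ⟨0, m, by simp⟩
    | succ j ih =>
      intro m
      obtain ⟨x, y, rfl⟩ := ih m
      obtain ⟨x', y', rfl⟩ := hstep y
      refine ⟨x + π ^ j • x', y', ?_⟩
      rw [map_add, LinearMap.map_smulₛₗ, map_pow, h.fix, smul_add, smul_sub, pow_succ, mul_smul]
      abel
  intro m
  obtain ⟨x, y, rfl⟩ := hind n m
  exact ⟨x, by simp [hn]⟩

theorem exists_fixed_mod [Module.Finite R M] (h : Setup φ σ σb π)
    (hlift : ∀ x : k, σb x = x → ∃ r : R, σ r = r ∧ φ r = x) :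
    ∃ s : Set M, s.Finite ∧ (∀ m ∈ s, T m = m) ∧
      ∀ m, T m = m → ∃ m' ∈ Submodule.span (RingHom.eqLocus σ (RingHom.id R)) s, ∃ y, m - m' = π • y := by
  classical
  obtain ⟨Q, _, _, _, Tb, ψ, hψ, hsm, hT, hker⟩ := exists_reduction T h
  obtain ⟨t, ht, hspan, hli⟩ := exists_linearIndependent k (ψ '' {m | T m = m})
  have hfin : t.Finite := hli.setFinite
  choose g hg using fun x : t => ht x.2
  have : Fintype t := hfin.fintype
  refine ⟨Set.range g, Set.finite_range g, ?_, fun m hm => ?_⟩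
  · rintro _ ⟨x, rfl⟩; exact (hg x).1
  have hmem : ψ m ∈ Submodule.span k (Set.range ((↑) : t → Q)) := by
    rw [Subtype.range_coe, hspan]
    exact Submodule.subset_span ⟨m, hm, rfl⟩
  obtain ⟨a, ha⟩ := (Submodule.mem_span_range_iff_exists_fun k).1 hmem
  have hfix : ∀ i : t, σb (a i) = a i := by
    have e : ∑ i : t, (σb (a i) - a i) • (i : Q) = 0 := by
      simp only [sub_smul, Finset.sum_sub_distrib]
      rw [ha, sub_eq_zero]
      conv_rhs => rw [← hm, hT, ← ha, map_sum]
      refine Finset.sum_congr rfl fun i _ => ?_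
      rw [LinearMap.map_smulₛₗ, ← (hg i).2, ← hT, (hg i).1]
    exact fun i => sub_eq_zero.1 (Fintype.linearIndependent_iff.1 hli _ e i)
  choose r hr hr' using fun i => hlift _ (hfix i)
  obtain ⟨y, hy⟩ := hker (m - ∑ i : t, r i • g i) (by
    simp only [map_sub, map_sum, hsm, hr', (hg _).2, ha, sub_self])
  refine ⟨∑ i : t, r i • g i, Submodule.sum_mem _ fun i _ => ?_, y, hy⟩
  have hgi : g i ∈ Submodule.span (RingHom.eqLocus σ (RingHom.id R)) (Set.range g) := Submodule.subset_span ⟨i, rfl⟩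
  exact Submodule.smul_mem _ (⟨r i, hr i⟩ : RingHom.eqLocus σ (RingHom.id R)) hgi

theorem fixed_fg [Module.Finite R M] (h : Setup φ σ σb π) {n : ℕ} (hn : π ^ n = 0)
    (hlift : ∀ x : k, σb x = x → ∃ r : R, σ r = r ∧ φ r = x) :
    ∃ s : Finset M, (∀ m ∈ s, T m = m) ∧
      ∀ m : M, T m = m → ∃ c : M → R, (∀ x ∈ s, σ (c x) = c x) ∧ m = ∑ x ∈ s, c x • x := by
  classical
  suffices H : ∀ i : ℕ, ∃ s : Set M, s.Finite ∧ (∀ m ∈ s, T m = m) ∧ ∀ m, T m = m → (∃ y, m = π ^ (n - i) • y) →
      m ∈ Submodule.span (RingHom.eqLocus σ (RingHom.id R)) s by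
    obtain ⟨s, hs, hfix, hgen⟩ := H n
    refine ⟨hs.toFinset, fun m hm => hfix m (hs.mem_toFinset.1 hm), fun m hm => ?_⟩
    have hmem := hgen m hm ⟨m, by simp⟩
    rw [← hs.coe_toFinset] at hmem
    obtain ⟨c, -, hc⟩ := Submodule.mem_span_finset.1 hmem
    exact ⟨fun x => (c x : R), fun x _ => (c x).2, hc.symm⟩
  intro i
  induction i with
  | zero => exact ⟨∅, Set.finite_empty, by simp, fun m _ ⟨y, hy⟩ => by simp [hy, hn]⟩
  | succ i ih =>
    obtain ⟨s, hs, hfix, hgen⟩ := ih
    rcases le_or_gt n i with hni | hni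
    · exact ⟨s, hs, hfix, fun m hm hy => hgen m hm (by rwa [Nat.sub_eq_zero_of_le hni, ← Nat.sub_eq_zero_of_le (hni.trans i.le_succ)])⟩
    let N : Submodule R M := (LinearMap.lsmul R M (π ^ (n - (i + 1)))).range
    haveI : Module.Finite R N := Module.Finite.range _
    have hTN : ∀ x ∈ N, T x ∈ N := by
      rintro _ ⟨y, rfl⟩
      exact ⟨T y, by simp [LinearMap.map_smulₛₗ, h.fix]⟩
    let TN : N →ₛₗ[σ] N :=
      { toFun := fun x => ⟨T x, hTN x x.2⟩
        map_add' := fun x y => Subtype.ext (map_add T _ _)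
        map_smul' := fun c x => Subtype.ext (LinearMap.map_smulₛₗ T c _) }
    obtain ⟨s', hs', hfix', hgen'⟩ := exists_fixed_mod TN h hlift
    refine ⟨s ∪ Subtype.val '' s', hs.union (hs'.image _), ?_, fun m hm hy => ?_⟩
    · rintro x (hx | ⟨x, hx, rfl⟩)
      · exact hfix x hx
      · exact congrArg Subtype.val (hfix' x hx)
    obtain ⟨y, rfl⟩ := hy
    obtain ⟨m', hm', z, hz⟩ := hgen' ⟨π ^ (n - (i + 1)) • y, ⟨y, rfl⟩⟩ (Subtype.ext hm)
    have hsp : (m' : M) ∈ Submodule.span (RingHom.eqLocus σ (RingHom.id R)) (Subtype.val '' s') := by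
      have := Submodule.mem_map_of_mem (f := N.subtype.restrictScalars (RingHom.eqLocus σ (RingHom.id R))) hm'
      rwa [Submodule.map_span] at this
    have hfixm' : T (m' : M) = m' := by
      have hT' : ∀ x ∈ Submodule.span (RingHom.eqLocus σ (RingHom.id R)) (Subtype.val '' s'), T x = x := by
        intro x hx
        induction hx using Submodule.span_induction with
        | mem x hx =>
          obtain ⟨x, hx, rfl⟩ := hx
          exact congrArg Subtype.val (hfix' x hx)
        | zero => exact map_zero T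
        | add a b _ _ ha hb => rw [map_add, ha, hb]
        | smul c a _ ha => rw [Subring.smul_def, LinearMap.map_smulₛₗ, ha, show σ c = c from c.2]
      exact hT' _ hsp
    obtain ⟨w, hw⟩ := z.2
    have hd : π ^ (n - (i + 1)) • y - (m' : M) = π ^ (n - i) • w := by
      have h' := congrArg Subtype.val hz
      simp only [AddSubgroupClass.coe_sub, SetLike.val_smul] at h'
      rw [h', ← hw, LinearMap.lsmul_apply, smul_smul, ← pow_succ']
      congr 2
      omega
    have hrest := hgen (π ^ (n - (i + 1)) • y - (m' : M)) (by rw [map_sub, hm, hfixm']) ⟨w, hd⟩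
    rw [← sub_add_cancel (π ^ (n - (i + 1)) • y) (m' : M)]
    exact add_mem (Submodule.span_mono Set.subset_union_left hrest) (Submodule.span_mono Set.subset_union_right hsp)

end Groth.Agent.Lib.SigmaLin99.Nilp
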