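import Groth.Agent.Lib.SigmaLin99.Nilp
import Groth.Prelude.Def_WittGrp
import Mathlib.RingTheory.WittVector.Complete
import Mathlib.FieldTheory.IsAlgClosed.Basic
import Mathlib.FieldTheory.Perfect
import Mathlib.FieldTheory.Finite.Basic

/-!
# The truncated Witt vectors of an algebraically closed field
-/

universe u

namespace Groth.Agent.Lib.SigmaLin99.Witt

open Basic Polynomial

variable (p : ℕ) [Fact p.Prime] (k : Type u) [Field k] [CharP k p] [IsAlgClosed k]

theorem exists_root_ne_zero {P : k[X]} {d : ℕ} (hd : 0 < d) (hcoeff : P.coeff d ≠ 0) (h0 : P.eval 0 ≠ 0) :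
    ∃ z : k, z ≠ 0 ∧ P.eval z = 0 := by
  obtain ⟨z, hz⟩ := IsAlgClosed.exists_root P fun h => by
    have := P.le_degree_of_ne_zero hcoeff
    rw [h] at this
    have h' : d ≤ 0 := WithBot.coe_le_coe.1 this
    omega
  refine ⟨z, fun h => h0 ?_, hz⟩
  subst h
  exact hz

theorem cond₃_frob (c : k) : ∃ y : k, frobenius k p y - y + c = 0 := by
  have hp := (Fact.out : p.Prime).two_le
  obtain ⟨y, hy⟩ := IsAlgClosed.exists_root (X ^ p - X + C c) (fun h => by
    have h1 := (X ^ p - X + C c).le_degree_of_ne_zero (n := p) (by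
      simp [coeff_X, coeff_C, show ¬ (1 = p) by omega, show p ≠ 0 by omega])
    rw [h] at h1
    have h' : p ≤ 0 := WithBot.coe_le_coe.1 h1
    omega)
  exact ⟨y, by simpa [frobenius_def] using hy⟩

theorem cond₃_frob_symm (c : k) : ∃ y : k, (frobeniusEquiv k p).symm.toRingHom y - y + c = 0 := by
  obtain ⟨z, hz⟩ := cond₃_frob p k (-c)
  refine ⟨frobeniusEquiv k p z, ?_⟩
  simp only [RingEquiv.toRingHom_eq_coe, RingHom.coe_coe, RingEquiv.symm_apply_apply]
  rw [frobenius_def] at hz
  simp only [frobeniusEquiv_apply, frobenius_def]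
  linear_combination -hz

theorem iterate_frobenius_apply (j : ℕ) (x : k) : (⇑(frobenius k p))^[j] x = x ^ p ^ j :=
  congrFun (coe_iterateFrobenius k p j).symm x |>.trans (iterateFrobenius_def p j x)

theorem cond₂_frob : Cond₂ (frobenius k p) := by
  classical
  intro n b hb
  have hp := (Fact.out : p.Prime).two_le
  let β : Fin (n + 1) → k := fun i => b (Fin.rev i) ^ p ^ (i : ℕ)
  obtain ⟨i₀, hi₀⟩ := Function.ne_iff.1 hb
  let i₁ := Fin.rev i₀
  have hβ : β i₁ ≠ 0 := by
    simp only [β, i₁, Fin.rev_rev]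
    exact pow_ne_zero _ hi₀
  let P : k[X] := (∑ i : Fin (n + 1), C (β i) * X ^ (p ^ ((i : ℕ) + 1) - 1)) - 1
  have hpow : ∀ i : ℕ, 2 ≤ p ^ (i + 1) := fun i => hp.trans (Nat.le_self_pow (by omega) p)
  obtain ⟨x, hx0, hx⟩ := exists_root_ne_zero k (P := P) (d := p ^ ((i₁ : ℕ) + 1) - 1)
    (by have := hpow i₁; omega) (by
      simp only [P, coeff_sub, finsetSum_coeff, coeff_C_mul, coeff_X_pow, coeff_one, mul_ite, mul_one, mul_zero]
      rw [Finset.sum_eq_single i₁ (fun i _ hi => if_neg fun h => hi (Fin.ext (by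
          have h' : p ^ ((i₁ : ℕ) + 1) = p ^ ((i : ℕ) + 1) := by have := hpow i; have := hpow i₁; omega
          have := Nat.pow_right_injective hp h'
          omega))) (by simp), if_pos rfl, if_neg (by have := hpow i₁; omega), sub_zero]
      exact hβ) (by
      have h0 : ∀ i : Fin (n + 1), (0 : k) ^ (p ^ ((i : ℕ) + 1) - 1) = 0 := fun i => zero_pow (by have := hpow i; omega)
      simp [P, eval_finsetSum, h0])
  refine ⟨x, hx0, ?_⟩
  have h : (∑ i : Fin (n + 1), β i * x ^ (p ^ ((i : ℕ) + 1) - 1)) = 1 := by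
    simpa [P, eval_finsetSum, sub_eq_zero] using hx
  conv_lhs => rw [← mul_one x, ← h, Finset.mul_sum]
  refine Finset.sum_congr rfl fun i _ => ?_
  rw [iterate_frobenius_apply, iterate_frobenius_apply, mul_comm (β i), ← mul_assoc, ← pow_succ',
    Nat.sub_add_cancel ((by have := hpow i; omega : 1 ≤ p ^ ((i : ℕ) + 1)))]

theorem iterate_frob_symm_apply {j m : ℕ} (h : j ≤ m) (z : k) :
    (⇑(frobeniusEquiv k p).symm.toRingHom)^[j] (z ^ p ^ m) = z ^ p ^ (m - j) := by
  induction j generalizing m with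
  | zero => rfl
  | succ j ih =>
    obtain ⟨m, rfl⟩ := Nat.exists_eq_add_of_le' (show 1 ≤ m by omega)
    rw [Function.iterate_succ_apply, show ((frobeniusEquiv k p).symm.toRingHom) (z ^ p ^ (m + 1)) = z ^ p ^ m by
      simp only [RingEquiv.toRingHom_eq_coe, RingHom.coe_coe]
      rw [RingEquiv.symm_apply_eq, frobeniusEquiv_apply, frobenius_def, ← pow_mul, ← pow_succ],
      ih (by omega)]
    congr 2
    omega

theorem cond₂_frob_symm : Cond₂ (frobeniusEquiv k p).symm.toRingHom := by
  classical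
  intro n b hb
  have hp := (Fact.out : p.Prime).two_le
  let β : Fin (n + 1) → k := fun i => (⇑(frobeniusEquiv k p).symm.toRingHom)^[(i : ℕ)] (b (Fin.rev i))
  have hne : ∃ i, β i ≠ 0 := by
    obtain ⟨i₀, hi₀⟩ := Function.ne_iff.1 hb
    refine ⟨Fin.rev i₀, fun h => hi₀ ?_⟩
    refine (RingHom.injective (frobeniusEquiv k p).symm.toRingHom).iterate (Fin.rev i₀ : ℕ) ?_
    rw [Pi.zero_apply, iterate_map_zero]
    simpa [β] using h
  obtain ⟨i₁, hi₁, hmax⟩ := (Finset.univ.filter fun i => β i ≠ 0).exists_max_image (fun i : Fin (n + 1) => (i : ℕ))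
    (let ⟨i, hi⟩ := hne; ⟨i, by simpa using hi⟩)
  simp only [Finset.mem_filter, Finset.mem_univ, true_and] at hi₁ hmax
  let e₀ := p ^ (n - (i₁ : ℕ))
  have he : ∀ i, β i ≠ 0 → e₀ ≤ p ^ (n - (i : ℕ)) := fun i hi =>
    Nat.pow_le_pow_right (by omega) (by have := hmax i hi; omega)
  have hlt : ∀ i : Fin (n + 1), p ^ (n - (i : ℕ)) < p ^ (n + 1) := fun i => Nat.pow_lt_pow_right (by omega) (by omega)
  let P : k[X] := X ^ (p ^ (n + 1) - e₀) - ∑ i : Fin (n + 1), C (β i) * X ^ (p ^ (n - (i : ℕ)) - e₀)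
  obtain ⟨z, hz0, hz⟩ := exists_root_ne_zero k (P := P) (d := p ^ (n + 1) - e₀)
    (by have := hlt i₁; omega) (by
      simp only [P, coeff_sub, finsetSum_coeff, coeff_C_mul, coeff_X_pow, mul_ite, mul_one, mul_zero, if_true]
      rw [Finset.sum_eq_zero fun i _ => if_neg (by have := hlt i; have := hlt i₁; omega)]
      simp) (by
      simp only [P, eval_sub, eval_finsetSum, eval_mul, eval_C, eval_pow, eval_X]
      rw [zero_pow (by have := hlt i₁; omega), Finset.sum_eq_single i₁ (fun i _ hi => ?_) (by simp)]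
      · simpa [e₀] using hi₁
      · by_cases hβ : β i = 0
        · simp [hβ]
        · rw [zero_pow, mul_zero]
          intro h0
          have h' : p ^ (n - (i : ℕ)) = p ^ (n - (i₁ : ℕ)) := le_antisymm (by omega) (he i hβ)
          have := Nat.pow_right_injective hp h'
          exact hi (Fin.ext (by have := i.2; have := i₁.2; omega)))
  refine ⟨z ^ p ^ (n + 1), pow_ne_zero _ hz0, ?_⟩
  have h : z ^ (p ^ (n + 1) - e₀) = ∑ i : Fin (n + 1), β i * z ^ (p ^ (n - (i : ℕ)) - e₀) := by
    simpa [P, eval_finsetSum, sub_eq_zero] using hz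
  conv_lhs => rw [← Nat.sub_add_cancel (show e₀ ≤ p ^ (n + 1) from (hlt i₁).le), pow_add, h, Finset.sum_mul]
  refine Finset.sum_congr rfl fun i _ => ?_
  rw [iterate_frob_symm_apply p k (by omega), show n + 1 - ((i : ℕ) + 1) = n - (i : ℕ) by omega]
  show β i * _ * _ = z ^ _ * β i
  by_cases hβ : β i = 0
  · simp [hβ]
  · rw [mul_assoc, ← pow_add, Nat.sub_add_cancel (he i hβ), mul_comm]

/-- The residue map of `W_n(k)`. -/
noncomputable def residue (n : ℕ) (hn : 0 < n) : TruncatedWittVector p n k →+* k where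
  toFun x := x.coeff ⟨0, hn⟩
  map_one' := by
    rw [← map_one (WittVector.truncate (p := p) (R := k) n), WittVector.coeff_truncate]
    exact WittVector.one_coeff_zero p k
  map_zero' := TruncatedWittVector.coeff_zero p n k _
  map_mul' x y := by
    obtain ⟨X, rfl⟩ := WittVector.truncate_surjective p n k x
    obtain ⟨Y, rfl⟩ := WittVector.truncate_surjective p n k y
    rw [← map_mul, WittVector.coeff_truncate, WittVector.coeff_truncate, WittVector.coeff_truncate]
    exact map_mul WittVector.constantCoeff X Y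
  map_add' x y := by
    obtain ⟨X, rfl⟩ := WittVector.truncate_surjective p n k x
    obtain ⟨Y, rfl⟩ := WittVector.truncate_surjective p n k y
    rw [← map_add, WittVector.coeff_truncate, WittVector.coeff_truncate, WittVector.coeff_truncate]
    exact map_add WittVector.constantCoeff X Y

theorem residue_apply (n : ℕ) (hn : 0 < n) (x : TruncatedWittVector p n k) : residue p k n hn x = x.coeff ⟨0, hn⟩ := rfl

theorem natCast_pow_eq_zero (n : ℕ) : (p : TruncatedWittVector p n k) ^ n = 0 := by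
  rw [← map_natCast (WittVector.truncate (p := p) (R := k) n), ← map_pow, ← RingHom.mem_ker,
    WittVector.mem_ker_truncate]
  exact fun i hi => WittVector.coeff_p_pow_eq_zero p k (Nat.ne_of_lt hi)

theorem setup (n : ℕ) (hn : 0 < n) (f : k →+* k) :
    Nilp.Setup (residue p k n hn) (WittGrp.truncMap p n f) f (p : TruncatedWittVector p n k) where
  surj c := by
    obtain ⟨X, hX⟩ := WittVector.constantCoeff_surjective (p := p) c
    exact ⟨WittVector.truncate n X, (WittVector.coeff_truncate _ _).trans hX⟩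
  ker := by
    refine le_antisymm (fun x hx => ?_) ?_
    · obtain ⟨X, rfl⟩ := WittVector.truncate_surjective p n k x
      have hX : X ∈ Ideal.span {(p : WittVector p k)} := by
        rw [← WittVector.ker_constantCoeff, RingHom.mem_ker]
        exact (WittVector.coeff_truncate X ⟨0, hn⟩).symm.trans hx
      obtain ⟨Y, rfl⟩ := Ideal.mem_span_singleton.1 hX
      rw [map_mul, map_natCast]
      exact Ideal.mem_span_singleton.2 (dvd_mul_right _ _)
    · rw [Ideal.span_le, Set.singleton_subset_iff, SetLike.mem_coe, RingHom.mem_ker, map_natCast, CharP.cast_eq_zero]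
  comm x := (WittGrp.coeff_truncMap p n f x ⟨0, hn⟩).symm
  fix := map_natCast _ _

theorem exists_natCast {x : k} (h : frobenius k p x = x) : ∃ m : ℕ, (m : k) = x := by
  letI : Algebra (ZMod p) k := ZMod.algebra k p
  obtain ⟨m, hm⟩ : ∃ m : ZMod p, algebraMap (ZMod p) k m = x := by
    have h1 : x ∈ (⊥ : Subfield k) := (Subfield.mem_bot_iff_pow_eq_self k p).2 (by rwa [frobenius_def] at h)
    exact (bot_le (a := (algebraMap (ZMod p) k).fieldRange)) h1
  refine ⟨m.val, ?_⟩
  rw [← hm, ← map_natCast (algebraMap (ZMod p) k), ZMod.natCast_zmod_val]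

end Groth.Agent.Lib.SigmaLin99.Witt
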